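import Cfsg.Agent.Spor.LyAc.D0

set_option autoImplicit false
set_option maxRecDepth 100000000
set_option Elab.async false

namespace Cfsg.Agent.Spor.LyAc

theorem ok0 : Net.okb 4 n0 = true := by decide +kernel

theorem ok1 : Net.okb 4 n1 = true := by decide +kernel

theorem ok2 : Net.okb 4 n2 = true := by decide +kernel

theorem ok3 : Net.okb 4 n3 = true := by decide +kernel

theorem ok4 : Net.okb 4 n4 = true := by decide +kernel

theorem rel0 : T.rel 4 [1, 1] 0 4 = true := by decide +kernel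

theorem rel1 : T.rel 4 [2, 5, 1, 5, 1, 9, 5, 1, 5, 1, 9, 2, 5, 1, 9, 1, 9, 5, 1, 9, 1, 9] 0 4 = true := by decide +kernel

theorem rel2 : T.rel 4 [5, 1, 5, 1, 9, 5, 1, 5, 1, 9, 5, 1, 5, 1, 9, 5, 1, 5, 1, 9] 0 4 = true := by decide +kernel

theorem rel3 : T.rel 4 [2, 2, 2, 2, 2] 0 4 = true := by decide +kernel

theorem rel4 : T.rel 4 [2, 5, 1, 5, 1, 9, 2, 5, 1, 5, 1, 9, 2, 5, 1, 5, 1, 9, 2, 5, 1, 9, 1, 9, 6, 5, 1, 9, 1, 9] 0 4 = true := by decide +kernel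

theorem rel5 : T.rel 4 [5, 2, 9, 6, 6] 0 4 = true := by decide +kernel

theorem rel6 : T.rel 4 [5, 1, 2, 2, 9, 2, 1, 9, 5, 1, 5, 1, 9] 0 4 = true := by decide +kernel

theorem rel7 : T.rel 4 [5, 5, 5, 1, 9, 1, 9, 5, 1, 9, 1, 9] 0 4 = true := by decide +kernel

theorem rel8 : T.rel 4 [5, 1, 2, 2, 1, 9, 6, 1, 9, 5, 1, 5, 1, 9, 6] 0 4 = true := by decide +kernel

theorem rel9 : T.rel 4 [1, 2, 5, 1, 5, 1, 9, 6, 5, 1, 9, 1, 9, 2, 2, 5, 1, 9, 1, 9, 6, 6] 0 4 = true := by decide +kernel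

theorem rel10 : T.rel 4 [4, 4, 9, 9] 0 4 = true := by decide +kernel

theorem rel11 : T.rel 4 [4, 2, 8, 6, 6] 0 4 = true := by decide +kernel

theorem rel12 : T.rel 4 [4, 1, 2, 2, 8, 2, 1, 8, 9, 1, 9, 1, 9] 0 4 = true := by decide +kernel

theorem rel13 : T.rel 4 [4, 1, 5, 1, 8, 1, 9, 1] 0 4 = true := by decide +kernel

theorem rel14 : T.rel 4 [3, 3, 8, 8] 0 4 = true := by decide +kernel

theorem rel15 : T.rel 4 [3, 2, 7, 6, 6] 0 4 = true := by decide +kernel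

theorem rel16 : T.rel 4 [3, 1, 2, 2, 7, 2, 1, 7, 8, 1, 8, 1, 8] 0 4 = true := by decide +kernel

theorem rel17 : T.rel 4 [3, 1, 5, 1, 7, 1, 9, 1] 0 4 = true := by decide +kernel

theorem rel18 : T.rel 4 [3, 1, 4, 1, 7, 1, 8, 1] 0 4 = true := by decide +kernel

theorem hcov : T.treeCov (ones 9) L 1 = true := by decide +kernel

theorem hg : lall (fun z => band (memL L z) (band (sub (ones 9) (T.let z).cl) (T.closed (ones 9) z))) gs = true := by decide +kernel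

theorem rot1_1 : T.rot 1 [1] (sel (ones 9) ip1 1) = true := by decide +kernel

theorem rot1_1r : band (Rule.ok (2 * 1) EX RL ⟨1 :: [1], [], 18, false⟩) (lall (memL L) [1]) = true := by decide +kernel

theorem rot1_2 : T.rot 1 [9, 1, 4, 1, 5, 1, 8] (sel (ones 9) ip1 2) = true := by decide +kernel

theorem rot1_2r : band (Rule.ok (2 * 1) EX RL ⟨1 :: [9, 1, 4, 1, 5, 1, 8], [0, 9, 0], 12, true⟩) (lall (memL L) [9, 1, 4, 1, 5, 1, 8]) = true := by decide +kernel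

theorem rot1_3 : T.rot 1 [8, 9, 1, 9, 1, 9, 4, 1, 2, 2, 8, 2] (sel (ones 9) ip1 3) = true := by decide +kernel

theorem rot1_3r : band (Rule.ok (2 * 1) EX RL ⟨1 :: [8, 9, 1, 9, 1, 9, 4, 1, 2, 2, 8, 2], [7, 0, 3, 3, 6, 3], 11, true⟩) (lall (memL L) [8, 9, 1, 9, 1, 9, 4, 1, 2, 2, 8, 2]) = true := by decide +kernel

theorem rot1_4 : T.rot 1 [2, 2, 1, 9, 6, 1, 9, 5, 1, 5, 1, 9, 6, 5] (sel (ones 9) ip1 4) = true := by decide +kernel

theorem rot1_4r : band (Rule.ok (2 * 1) EX RL ⟨1 :: [2, 2, 1, 9, 6, 1, 9, 5, 1, 5, 1, 9, 6, 5], [9], 7, true⟩) (lall (memL L) [2, 2, 1, 9, 6, 1, 9, 5, 1, 5, 1, 9, 6, 5]) = true := by decide +kernel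

theorem rot1_5 : T.rot 1 [9, 2, 5, 1, 9, 1, 9, 5, 1, 2, 5, 1, 6, 6] (sel (ones 9) ip1 5) = true := by decide +kernel

theorem rot1_5r : band (Rule.ok (2 * 1) EX RL ⟨1 :: [9, 2, 5, 1, 9, 1, 9, 5, 1, 2, 5, 1, 6, 6], [9, 0], 7, false⟩) (lall (memL L) [9, 2, 5, 1, 9, 1, 9, 5, 1, 2, 5, 1, 6, 6]) = true := by decide +kernel

theorem rot1_6 : T.rot 1 [2, 5, 1, 5, 1, 9, 6, 5, 1, 9, 1, 9, 2, 2, 5, 1, 9, 1, 9, 6, 6] (sel (ones 9) ip1 6) = true := by decide +kernel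

theorem rot1_6r : band (Rule.ok (2 * 1) EX RL ⟨1 :: [2, 5, 1, 5, 1, 9, 6, 5, 1, 9, 1, 9, 2, 2, 5, 1, 9, 1, 9, 6, 6], [], 8, true⟩) (lall (memL L) [2, 5, 1, 5, 1, 9, 6, 5, 1, 9, 1, 9, 2, 2, 5, 1, 9, 1, 9, 6, 6]) = true := by decide +kernel

theorem rot1_7 : T.rot 1 [9, 6, 1, 2, 2, 5, 1, 5, 1, 9, 6, 6, 5, 1, 5, 1, 9, 2, 5, 1, 9] (sel (ones 9) ip1 7) = true := by decide +kernel

theorem rot1_7r : band (Rule.ok (2 * 1) EX RL ⟨1 :: [9, 6, 1, 2, 2, 5, 1, 5, 1, 9, 6, 6, 5, 1, 5, 1, 9, 2, 5, 1, 9], [0, 3, 9, 0], 8, false⟩) (lall (memL L) [9, 6, 1, 2, 2, 5, 1, 5, 1, 9, 6, 6, 5, 1, 5, 1, 9, 2, 5, 1, 9]) = true := by decide +kernel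

theorem cov1 : T.cover 1 [(sel (ones 9) ip1 1), (sel (ones 9) ip1 2), (sel (ones 9) ip1 3), (sel (ones 9) ip1 4), (sel (ones 9) ip1 5), (sel (ones 9) ip1 6), (sel (ones 9) ip1 7), 1] = true := by decide +kernel

theorem tl1 : T.treeLt 4 1 = true := by decide +kernel

theorem rot2_1 : T.rot 2 [6] (sel (ones 9) ip2 1) = true := by decide +kernel

theorem rot2_1r : band (Rule.ok (2 * 1) EX RL ⟨2 :: [6], [], 18, false⟩) (lall (memL L) [6]) = true := by decide +kernel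

theorem rot2_2 : T.rot 2 [2, 2, 2, 2] (sel (ones 9) ip2 2) = true := by decide +kernel

theorem rot2_2r : band (Rule.ok (2 * 1) EX RL ⟨2 :: [2, 2, 2, 2], [], 2, true⟩) (lall (memL L) [2, 2, 2, 2]) = true := by decide +kernel

theorem rot2_3 : T.rot 2 [9, 6, 6, 5] (sel (ones 9) ip2 3) = true := by decide +kernel

theorem rot2_3r : band (Rule.ok (2 * 1) EX RL ⟨2 :: [9, 6, 6, 5], [9], 4, true⟩) (lall (memL L) [9, 6, 6, 5]) = true := by decide +kernel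

theorem rot2_4 : T.rot 2 [8, 6, 6, 4] (sel (ones 9) ip2 4) = true := by decide +kernel

theorem rot2_4r : band (Rule.ok (2 * 1) EX RL ⟨2 :: [8, 6, 6, 4], [7], 10, true⟩) (lall (memL L) [8, 6, 6, 4]) = true := by decide +kernel

theorem rot2_5 : T.rot 2 [7, 6, 6, 3] (sel (ones 9) ip2 5) = true := by decide +kernel

theorem rot2_5r : band (Rule.ok (2 * 1) EX RL ⟨2 :: [7, 6, 6, 3], [5], 14, true⟩) (lall (memL L) [7, 6, 6, 3]) = true := by decide +kernel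

theorem cov2 : T.cover 2 [(sel (ones 9) ip2 1), (sel (ones 9) ip2 2), (sel (ones 9) ip2 3), (sel (ones 9) ip2 4), (sel (ones 9) ip2 5), 1] = true := by decide +kernel

theorem tl2 : T.treeLt 4 2 = true := by decide +kernel

theorem rot3_1 : T.rot 3 [8, 8, 3] (sel (ones 9) ip3 1) = true := by decide +kernel

theorem rot3_1r : band (Rule.ok (2 * 1) EX RL ⟨3 :: [8, 8, 3], [5], 13, true⟩) (lall (memL L) [8, 8, 3]) = true := by decide +kernel

theorem rot3_2 : T.rot 3 [2, 7, 6, 6] (sel (ones 9) ip3 2) = true := by decide +kernel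

theorem rot3_2r : band (Rule.ok (2 * 1) EX RL ⟨3 :: [2, 7, 6, 6], [], 14, true⟩) (lall (memL L) [2, 7, 6, 6]) = true := by decide +kernel

theorem rot3_3 : T.rot 3 [6, 7, 2, 2] (sel (ones 9) ip3 3) = true := by decide +kernel

theorem rot3_3r : band (Rule.ok (2 * 1) EX RL ⟨3 :: [6, 7, 2, 2], [3, 3], 14, false⟩) (lall (memL L) [6, 7, 2, 2]) = true := by decide +kernel

theorem rot3_4 : T.rot 3 [1, 5, 1, 7, 1, 9, 1] (sel (ones 9) ip3 4) = true := by decide +kernel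

theorem rot3_4r : band (Rule.ok (2 * 1) EX RL ⟨3 :: [1, 5, 1, 7, 1, 9, 1], [], 16, true⟩) (lall (memL L) [1, 5, 1, 7, 1, 9, 1]) = true := by decide +kernel

theorem rot3_5 : T.rot 3 [1, 4, 1, 7, 1, 8, 1] (sel (ones 9) ip3 5) = true := by decide +kernel

theorem rot3_5r : band (Rule.ok (2 * 1) EX RL ⟨3 :: [1, 4, 1, 7, 1, 8, 1], [], 17, true⟩) (lall (memL L) [1, 4, 1, 7, 1, 8, 1]) = true := by decide +kernel

theorem rot3_6 : T.rot 3 [6, 6, 1, 7, 4, 1, 4, 1, 4, 3, 1, 6] (sel (ones 9) ip3 6) = true := by decide +kernel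

theorem rot3_6r : band (Rule.ok (2 * 1) EX RL ⟨3 :: [6, 6, 1, 7, 4, 1, 4, 1, 4, 3, 1, 6], [5, 0, 3, 3, 4], 15, false⟩) (lall (memL L) [6, 6, 1, 7, 4, 1, 4, 1, 4, 3, 1, 6]) = true := by decide +kernel

theorem cov3 : T.cover 3 [(sel (ones 9) ip3 1), (sel (ones 9) ip3 2), (sel (ones 9) ip3 3), (sel (ones 9) ip3 4), (sel (ones 9) ip3 5), (sel (ones 9) ip3 6)] = true := by decide +kernel

theorem tl3 : T.treeLt 4 3 = true := by decide +kernel

theorem rot4_1 : T.rot 4 [7, 7, 4] (sel (ones 9) ip4 1) = true := by decide +kernel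

theorem rot4_1r : band (Rule.ok (2 * 1) EX RL ⟨4 :: [7, 7, 4], [7], 13, false⟩) (lall (memL L) [7, 7, 4]) = true := by decide +kernel

theorem rot4_2 : T.rot 4 [2, 8, 6, 6] (sel (ones 9) ip4 2) = true := by decide +kernel

theorem rot4_2r : band (Rule.ok (2 * 1) EX RL ⟨4 :: [2, 8, 6, 6], [], 10, true⟩) (lall (memL L) [2, 8, 6, 6]) = true := by decide +kernel

theorem rot4_3 : T.rot 4 [6, 8, 2, 2] (sel (ones 9) ip4 3) = true := by decide +kernel

theorem rot4_3r : band (Rule.ok (2 * 1) EX RL ⟨4 :: [6, 8, 2, 2], [3, 3], 10, false⟩) (lall (memL L) [6, 8, 2, 2]) = true := by decide +kernel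

theorem rot4_4 : T.rot 4 [1, 5, 1, 8, 1, 9, 1] (sel (ones 9) ip4 4) = true := by decide +kernel

theorem rot4_4r : band (Rule.ok (2 * 1) EX RL ⟨4 :: [1, 5, 1, 8, 1, 9, 1], [], 12, true⟩) (lall (memL L) [1, 5, 1, 8, 1, 9, 1]) = true := by decide +kernel

theorem rot4_5 : T.rot 4 [1, 7, 1, 8, 1, 3, 1] (sel (ones 9) ip4 5) = true := by decide +kernel

theorem rot4_5r : band (Rule.ok (2 * 1) EX RL ⟨4 :: [1, 7, 1, 8, 1, 3, 1], [5, 0], 17, true⟩) (lall (memL L) [1, 7, 1, 8, 1, 3, 1]) = true := by decide +kernel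

theorem cov4 : T.cover 4 [(sel (ones 9) ip4 1), (sel (ones 9) ip4 2), (sel (ones 9) ip4 3), (sel (ones 9) ip4 4), (sel (ones 9) ip4 5), 1] = true := by decide +kernel

theorem tl4 : T.treeLt 4 4 = true := by decide +kernel

theorem rot5_1 : T.rot 5 [8, 8, 5] (sel (ones 9) ip5 1) = true := by decide +kernel

theorem rot5_1r : band (Rule.ok (2 * 1) EX RL ⟨5 :: [8, 8, 5], [9], 9, false⟩) (lall (memL L) [8, 8, 5]) = true := by decide +kernel

theorem rot5_2 : T.rot 5 [2, 9, 6, 6] (sel (ones 9) ip5 2) = true := by decide +kernel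

theorem rot5_2r : band (Rule.ok (2 * 1) EX RL ⟨5 :: [2, 9, 6, 6], [], 4, true⟩) (lall (memL L) [2, 9, 6, 6]) = true := by decide +kernel

theorem rot5_3 : T.rot 5 [6, 9, 2, 2] (sel (ones 9) ip5 3) = true := by decide +kernel

theorem rot5_3r : band (Rule.ok (2 * 1) EX RL ⟨5 :: [6, 9, 2, 2], [3, 3], 4, false⟩) (lall (memL L) [6, 9, 2, 2]) = true := by decide +kernel

theorem rot5_4 : T.rot 5 [1, 8, 1, 9, 1, 4, 1] (sel (ones 9) ip5 4) = true := by decide +kernel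

theorem rot5_4r : band (Rule.ok (2 * 1) EX RL ⟨5 :: [1, 8, 1, 9, 1, 4, 1], [7, 0], 12, true⟩) (lall (memL L) [1, 8, 1, 9, 1, 4, 1]) = true := by decide +kernel

theorem rot5_5 : T.rot 5 [1, 7, 1, 9, 1, 3, 1] (sel (ones 9) ip5 5) = true := by decide +kernel

theorem rot5_5r : band (Rule.ok (2 * 1) EX RL ⟨5 :: [1, 7, 1, 9, 1, 3, 1], [5, 0], 16, true⟩) (lall (memL L) [1, 7, 1, 9, 1, 3, 1]) = true := by decide +kernel

theorem rot5_6 : T.rot 5 [6, 6, 1, 9, 5, 1, 9, 1, 9, 5, 1, 6] (sel (ones 9) ip5 6) = true := by decide +kernel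

theorem rot5_6r : band (Rule.ok (2 * 1) EX RL ⟨5 :: [6, 6, 1, 9, 5, 1, 9, 1, 9, 5, 1, 6], [9, 0, 8, 2], 5, false⟩) (lall (memL L) [6, 6, 1, 9, 5, 1, 9, 1, 9, 5, 1, 6]) = true := by decide +kernel

theorem cov5 : T.cover 5 [(sel (ones 9) ip5 1), (sel (ones 9) ip5 2), (sel (ones 9) ip5 3), (sel (ones 9) ip5 4), (sel (ones 9) ip5 5), (sel (ones 9) ip5 6), 1] = true := by decide +kernel

theorem tl5 : T.treeLt 4 5 = true := by decide +kernel

theorem rot6_1 : T.rot 6 [2] (sel (ones 9) ip6 1) = true := by decide +kernel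

theorem rot6_1r : band (Rule.ok (2 * 1) EX RL ⟨6 :: [2], [], 18, false⟩) (lall (memL L) [2]) = true := by decide +kernel

theorem rot6_2 : T.rot 6 [6, 6, 6, 6] (sel (ones 9) ip6 2) = true := by decide +kernel

theorem rot6_2r : band (Rule.ok (2 * 1) EX RL ⟨6 :: [6, 6, 6, 6], [], 2, false⟩) (lall (memL L) [6, 6, 6, 6]) = true := by decide +kernel

theorem rot6_3 : T.rot 6 [9, 2, 2, 5] (sel (ones 9) ip6 3) = true := by decide +kernel

theorem rot6_3r : band (Rule.ok (2 * 1) EX RL ⟨6 :: [9, 2, 2, 5], [9, 3], 4, false⟩) (lall (memL L) [9, 2, 2, 5]) = true := by decide +kernel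

theorem rot6_4 : T.rot 6 [8, 2, 2, 4] (sel (ones 9) ip6 4) = true := by decide +kernel

theorem rot6_4r : band (Rule.ok (2 * 1) EX RL ⟨6 :: [8, 2, 2, 4], [7, 3], 10, false⟩) (lall (memL L) [8, 2, 2, 4]) = true := by decide +kernel

theorem rot6_5 : T.rot 6 [7, 2, 2, 3] (sel (ones 9) ip6 5) = true := by decide +kernel

theorem rot6_5r : band (Rule.ok (2 * 1) EX RL ⟨6 :: [7, 2, 2, 3], [5, 3], 14, false⟩) (lall (memL L) [7, 2, 2, 3]) = true := by decide +kernel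

theorem cov6 : T.cover 6 [(sel (ones 9) ip6 1), (sel (ones 9) ip6 2), (sel (ones 9) ip6 3), (sel (ones 9) ip6 4), (sel (ones 9) ip6 5)] = true := by decide +kernel

theorem tl6 : T.treeLt 4 6 = true := by decide +kernel

theorem rot7_1 : T.rot 7 [3] (sel (ones 9) ip7 1) = true := by decide +kernel

theorem rot7_1r : band (Rule.ok (2 * 1) EX RL ⟨7 :: [3], [], 18, false⟩) (lall (memL L) [3]) = true := by decide +kernel

theorem rot7_2 : T.rot 7 [7, 4, 4] (sel (ones 9) ip7 2) = true := by decide +kernel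

theorem rot7_2r : band (Rule.ok (2 * 1) EX RL ⟨7 :: [7, 4, 4], [5, 5], 13, false⟩) (lall (memL L) [7, 4, 4]) = true := by decide +kernel

theorem rot7_3 : T.rot 7 [6, 6, 3, 2] (sel (ones 9) ip7 3) = true := by decide +kernel

theorem rot7_3r : band (Rule.ok (2 * 1) EX RL ⟨7 :: [6, 6, 3, 2], [5, 3], 14, true⟩) (lall (memL L) [6, 6, 3, 2]) = true := by decide +kernel

theorem rot7_4 : T.rot 7 [2, 2, 3, 6] (sel (ones 9) ip7 4) = true := by decide +kernel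

theorem rot7_4r : band (Rule.ok (2 * 1) EX RL ⟨7 :: [2, 2, 3, 6], [5], 14, false⟩) (lall (memL L) [2, 2, 3, 6]) = true := by decide +kernel

theorem rot7_5 : T.rot 7 [1, 9, 1, 3, 1, 5, 1] (sel (ones 9) ip7 5) = true := by decide +kernel

theorem rot7_5r : band (Rule.ok (2 * 1) EX RL ⟨7 :: [1, 9, 1, 3, 1, 5, 1], [0, 9, 0, 5], 16, true⟩) (lall (memL L) [1, 9, 1, 3, 1, 5, 1]) = true := by decide +kernel

theorem rot7_6 : T.rot 7 [1, 8, 1, 3, 1, 4, 1] (sel (ones 9) ip7 6) = true := by decide +kernel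

theorem rot7_6r : band (Rule.ok (2 * 1) EX RL ⟨7 :: [1, 8, 1, 3, 1, 4, 1], [0, 7, 0, 5], 17, true⟩) (lall (memL L) [1, 8, 1, 3, 1, 4, 1]) = true := by decide +kernel

theorem rot7_7 : T.rot 7 [2, 1, 7, 8, 1, 8, 1, 8, 3, 1, 2, 2] (sel (ones 9) ip7 7) = true := by decide +kernel

theorem rot7_7r : band (Rule.ok (2 * 1) EX RL ⟨7 :: [2, 1, 7, 8, 1, 8, 1, 8, 3, 1, 2, 2], [5, 0, 3, 3], 15, true⟩) (lall (memL L) [2, 1, 7, 8, 1, 8, 1, 8, 3, 1, 2, 2]) = true := by decide +kernel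

theorem cov7 : T.cover 7 [(sel (ones 9) ip7 1), (sel (ones 9) ip7 2), (sel (ones 9) ip7 3), (sel (ones 9) ip7 4), (sel (ones 9) ip7 5), (sel (ones 9) ip7 6), (sel (ones 9) ip7 7)] = true := by decide +kernel

theorem tl7 : Nat.beq (T.let 7).tt 0 = true := by decide +kernel

theorem rot8_1 : T.rot 8 [4] (sel (ones 9) ip8 1) = true := by decide +kernel

theorem rot8_1r : band (Rule.ok (2 * 1) EX RL ⟨8 :: [4], [], 18, false⟩) (lall (memL L) [4]) = true := by decide +kernel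

theorem rot8_2 : T.rot 8 [8, 3, 3] (sel (ones 9) ip8 2) = true := by decide +kernel

theorem rot8_2r : band (Rule.ok (2 * 1) EX RL ⟨8 :: [8, 3, 3], [7, 7], 13, true⟩) (lall (memL L) [8, 3, 3]) = true := by decide +kernel

theorem rot8_3 : T.rot 8 [6, 6, 4, 2] (sel (ones 9) ip8 3) = true := by decide +kernel

theorem rot8_3r : band (Rule.ok (2 * 1) EX RL ⟨8 :: [6, 6, 4, 2], [7, 3], 10, true⟩) (lall (memL L) [6, 6, 4, 2]) = true := by decide +kernel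

theorem rot8_4 : T.rot 8 [2, 2, 4, 6] (sel (ones 9) ip8 4) = true := by decide +kernel

theorem rot8_4r : band (Rule.ok (2 * 1) EX RL ⟨8 :: [2, 2, 4, 6], [7], 10, false⟩) (lall (memL L) [2, 2, 4, 6]) = true := by decide +kernel

theorem rot8_5 : T.rot 8 [1, 9, 1, 4, 1, 5, 1] (sel (ones 9) ip8 5) = true := by decide +kernel

theorem rot8_5r : band (Rule.ok (2 * 1) EX RL ⟨8 :: [1, 9, 1, 4, 1, 5, 1], [0, 9, 0, 7], 12, true⟩) (lall (memL L) [1, 9, 1, 4, 1, 5, 1]) = true := by decide +kernel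

theorem rot8_6 : T.rot 8 [1, 7, 1, 4, 1, 3, 1] (sel (ones 9) ip8 6) = true := by decide +kernel

theorem rot8_6r : band (Rule.ok (2 * 1) EX RL ⟨8 :: [1, 7, 1, 4, 1, 3, 1], [5, 0, 7], 17, false⟩) (lall (memL L) [1, 7, 1, 4, 1, 3, 1]) = true := by decide +kernel

theorem cov8 : T.cover 8 [(sel (ones 9) ip8 1), (sel (ones 9) ip8 2), (sel (ones 9) ip8 3), (sel (ones 9) ip8 4), (sel (ones 9) ip8 5), (sel (ones 9) ip8 6)] = true := by decide +kernel

theorem tl8 : Nat.beq (T.let 8).tt 0 = true := by decide +kernel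

theorem rot9_1 : T.rot 9 [5] (sel (ones 9) ip9 1) = true := by decide +kernel

theorem rot9_1r : band (Rule.ok (2 * 1) EX RL ⟨9 :: [5], [], 18, false⟩) (lall (memL L) [5]) = true := by decide +kernel

theorem rot9_2 : T.rot 9 [9, 4, 4] (sel (ones 9) ip9 2) = true := by decide +kernel

theorem rot9_2r : band (Rule.ok (2 * 1) EX RL ⟨9 :: [9, 4, 4], [9, 9], 9, true⟩) (lall (memL L) [9, 4, 4]) = true := by decide +kernel

theorem rot9_3 : T.rot 9 [6, 6, 5, 2] (sel (ones 9) ip9 3) = true := by decide +kernel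

theorem rot9_3r : band (Rule.ok (2 * 1) EX RL ⟨9 :: [6, 6, 5, 2], [9, 3], 4, true⟩) (lall (memL L) [6, 6, 5, 2]) = true := by decide +kernel

theorem rot9_4 : T.rot 9 [2, 2, 5, 6] (sel (ones 9) ip9 4) = true := by decide +kernel

theorem rot9_4r : band (Rule.ok (2 * 1) EX RL ⟨9 :: [2, 2, 5, 6], [9], 4, false⟩) (lall (memL L) [2, 2, 5, 6]) = true := by decide +kernel

theorem rot9_5 : T.rot 9 [1, 4, 1, 5, 1, 8, 1] (sel (ones 9) ip9 5) = true := by decide +kernel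

theorem rot9_5r : band (Rule.ok (2 * 1) EX RL ⟨9 :: [1, 4, 1, 5, 1, 8, 1], [0, 9], 12, true⟩) (lall (memL L) [1, 4, 1, 5, 1, 8, 1]) = true := by decide +kernel

theorem rot9_6 : T.rot 9 [1, 7, 1, 5, 1, 3, 1] (sel (ones 9) ip9 6) = true := by decide +kernel

theorem rot9_6r : band (Rule.ok (2 * 1) EX RL ⟨9 :: [1, 7, 1, 5, 1, 3, 1], [5, 0, 9], 16, false⟩) (lall (memL L) [1, 7, 1, 5, 1, 3, 1]) = true := by decide +kernel

theorem rot9_7 : T.rot 9 [2, 1, 9, 5, 1, 5, 1, 9, 5, 1, 2, 2] (sel (ones 9) ip9 7) = true := by decide +kernel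

theorem rot9_7r : band (Rule.ok (2 * 1) EX RL ⟨9 :: [2, 1, 9, 5, 1, 5, 1, 9, 5, 1, 2, 2], [9, 0, 3, 3], 5, true⟩) (lall (memL L) [2, 1, 9, 5, 1, 5, 1, 9, 5, 1, 2, 2]) = true := by decide +kernel

theorem cov9 : T.cover 9 [(sel (ones 9) ip9 1), (sel (ones 9) ip9 2), (sel (ones 9) ip9 3), (sel (ones 9) ip9 4), (sel (ones 9) ip9 5), (sel (ones 9) ip9 6), (sel (ones 9) ip9 7)] = true := by decide +kernel

theorem tl9 : Nat.beq (T.let 9).tt 0 = true := by decide +kernel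

end Cfsg.Agent.Spor.LyAc
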