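import Cfsg.Agent.Spor.Chk

set_option autoImplicit false
set_option maxRecDepth 100000000
set_option Elab.async false
noncomputable section

namespace Cfsg.Agent.Spor.LyAc

def m0_0 : Nat := nat_lit 0x1
def m0_1 : Nat := nat_lit 0x1
def m0_2 : Nat := nat_lit 0x11
def m0_3 : Nat := nat_lit 0x41
def m0_4 : Nat := nat_lit 0x11
def m0_5 : Nat := nat_lit 0x1
def m0_6 : Nat := nat_lit 0x1
def n0 : Net := Net.cons 8 m0_0 (Net.cons 4 m0_1 (Net.cons 2 m0_2 (Net.cons 1 m0_3 (Net.cons 2 m0_4 (Net.cons 4 m0_5 (Net.cons 8 m0_6 (Net.nil)))))))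

def m1_0 : Nat := nat_lit 0x1
def m1_1 : Nat := nat_lit 0x1
def m1_2 : Nat := nat_lit 0x30
def m1_3 : Nat := nat_lit 0x40
def m1_4 : Nat := nat_lit 0x5
def m1_5 : Nat := nat_lit 0x1
def n1 : Net := Net.cons 8 m1_0 (Net.cons 4 m1_1 (Net.cons 2 m1_2 (Net.cons 1 m1_3 (Net.cons 4 m1_4 (Net.cons 8 m1_5 (Net.nil))))))

def m2_0 : Nat := nat_lit 0x3
def m2_1 : Nat := nat_lit 0x1
def m2_2 : Nat := nat_lit 0x20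
def m2_3 : Nat := nat_lit 0x110
def m2_4 : Nat := nat_lit 0x10
def m2_5 : Nat := nat_lit 0x1
def m2_6 : Nat := nat_lit 0x3
def n2 : Net := Net.cons 8 m2_0 (Net.cons 4 m2_1 (Net.cons 2 m2_2 (Net.cons 1 m2_3 (Net.cons 2 m2_4 (Net.cons 4 m2_5 (Net.cons 8 m2_6 (Net.nil)))))))

def m3_0 : Nat := nat_lit 0x1
def m3_1 : Nat := nat_lit 0x1
def m3_2 : Nat := nat_lit 0x22
def m3_3 : Nat := nat_lit 0x10
def m3_4 : Nat := nat_lit 0x10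
def m3_5 : Nat := nat_lit 0x1
def m3_6 : Nat := nat_lit 0x1
def n3 : Net := Net.cons 8 m3_0 (Net.cons 4 m3_1 (Net.cons 2 m3_2 (Net.cons 1 m3_3 (Net.cons 2 m3_4 (Net.cons 4 m3_5 (Net.cons 8 m3_6 (Net.nil)))))))

def m4_0 : Nat := nat_lit 0x1
def m4_1 : Nat := nat_lit 0x1
def m4_2 : Nat := nat_lit 0x20
def m4_3 : Nat := nat_lit 0x11
def m4_4 : Nat := nat_lit 0x10
def m4_5 : Nat := nat_lit 0x1
def m4_6 : Nat := nat_lit 0x1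
def n4 : Net := Net.cons 8 m4_0 (Net.cons 4 m4_1 (Net.cons 2 m4_2 (Net.cons 1 m4_3 (Net.cons 2 m4_4 (Net.cons 4 m4_5 (Net.cons 8 m4_6 (Net.nil)))))))

def ip1 : List Nat := [0x14c, 0x78, 0x1d0]
def l1 : Let := ⟨0, false, 0x1ff, 0x4, [0x54, 0x1c8, 0x1d8, 0x20]⟩

def ip2 : List Nat := [0xd2, 0x110, 0x8a]
def l2 : Let := ⟨1, false, 0x1ff, 0xa0, [0xd8, 0x9a, 0x100, 0x0]⟩

def ip3 : List Nat := [0x10e, 0x1c4, 0x58]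
def l3 : Let := ⟨2, false, 0x1ff, 0x102, [0x198, 0x5e, 0x19c, 0x0]⟩

def ip4 : List Nat := [0xec, 0x1e0, 0x14]
def l4 : Let := ⟨3, false, 0x1ff, 0x8, [0x1c8, 0xbc, 0x170, 0x0]⟩

def ip5 : List Nat := [0xb4, 0x1e0, 0x4c]
def l5 : Let := ⟨4, false, 0x1ff, 0x10, [0x1c8, 0xac, 0x178, 0x0]⟩

def ip6 : List Nat := [0x1b3, 0x50, 0x10a]
def l6 : Let := ⟨1, true, 0x1ff, 0x40, [0x1b9, 0x11a, 0x40, 0x0]⟩

def ip7 : List Nat := [0x1d2, 0xc9, 0xbc]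
def l7 : Let := ⟨2, true, 0x1ff, 0x0, [0x17a, 0x9d, 0x7c, 0x0]⟩

def ip8 : List Nat := [0xb9, 0xa6, 0x154]
def l8 : Let := ⟨3, true, 0x1ff, 0x0, [0xeb, 0x136, 0x1d0, 0x0]⟩

def ip9 : List Nat := [0x1b9, 0x1a6, 0xcc]
def l9 : Let := ⟨4, true, 0x1ff, 0x0, [0xf9, 0x12c, 0x1ca, 0x0]⟩

def NT : List Net := [n0, n1, n2, n3, n4]
def LT : List Let := [⟨0, false, 0, 0, []⟩, l1, l2, l3, l4, l5, l6, l7, l8, l9]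
def T : Tab := ⟨NT, LT⟩
def EX : List (List Nat) := [[], [0], [2], [4], [6], [8], [3], [5], [7], [9]]
def RL : List (List Nat) := [[9, 0, 9, 9, 0, 8, 2, 9, 0, 8, 8, 0, 8, 2], [9, 0, 8, 8, 8, 8, 0, 8], [2, 2, 2, 2, 2], [9, 0, 9, 0, 8, 3, 9, 0, 9, 0, 8, 2, 9, 0, 8, 0, 8, 2, 9, 0, 8, 0, 8, 2, 9, 0, 8, 0, 8, 2], [3, 3, 9, 2, 8], [9, 0, 8, 2, 9, 2, 2, 0, 8], [9, 0, 9, 9, 0, 8, 8, 8], [3, 9, 0, 8, 3, 9, 0, 2, 2, 0, 8], [3, 3, 9, 0, 9, 0, 8, 2, 2, 9, 0, 9, 0, 8, 3, 9, 0, 8, 0, 8, 2, 0], [9, 9, 6, 6], [3, 3, 7, 2, 6], [9, 0, 9, 0, 9, 7, 0, 2, 7, 2, 2, 0, 6], [0, 9, 0, 7, 0, 8, 0, 6], [7, 7, 4, 4], [3, 3, 5, 2, 4], [7, 0, 7, 0, 7, 5, 0, 2, 5, 2, 2, 0, 4], [0, 9, 0, 5, 0, 8, 0, 4], [0, 7, 0, 5, 0, 6, 0, 4]]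
def XL : List (List Nat) := []
def BW : List (List Nat) := [[0], [2], [6], [8]]
def IV : Nat := 0x5040302090807060100
def L : List Nat := [1, 2, 3, 4, 5, 6, 7, 8, 9]
def gs : List Nat := [1, 2, 3, 4, 5]
def base : List Nat := [1, 2, 4, 5]

end Cfsg.Agent.Spor.LyAc
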